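import Cfsg.Agent.H0.TC
set_option maxRecDepth 100000
namespace H0.TCM120
open H0
noncomputable def r0 : TC.WTr := (.node (.node (.node (.node (.node (.node (.leaf [0] 0 0 false) (.leaf [7, 9] 10 0 false)) (.node (.leaf [2, 0, 5, 9, 5, 8, 5, 0, 1] 53 2 false) (.leaf [5, 0, 6, 0, 4] 41 4 false))) (.node (.node (.leaf [2] 1 0 false) (.leaf [5, 2, 3, 5, 8, 3, 5, 1] 45 6 true)) (.leaf [4, 3, 0, 5, 8, 1, 8] 44 5 false))) (.node (.node (.node (.leaf [0] 0 0 false) (.leaf [6] 6 0 false)) (.node (.leaf [8, 7, 8, 3, 4, 7, 5] 29 4 false) (.leaf [9] 9 0 false))) (.node (.node (.leaf [3, 2, 5, 5, 5, 0, 1, 4] 55 3 false) (.leaf [5, 3, 7, 8, 6, 5, 3] 31 2 false)) (.leaf [5, 8, 2, 8, 4, 0, 3] 44 1 true)))) (.node (.node (.node (.node (.leaf [3, 5, 5, 8, 2, 8, 4] 44 7 true) (.leaf [1, 3, 7, 5, 3, 0, 4, 1] 50 7 true)) (.node (.leaf [7, 3, 4, 6, 5] 27 4 false) (.leaf [0, 1, 8, 3,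 9, 5, 5, 2] 49 6 true))) (.node (.node (.leaf [2] 1 0 false) (.leaf [8] 8 0 false)) (.leaf [5] 4 0 false))) (.node (.node (.node (.leaf [1, 1] 33 0 false) (.leaf [2, 4, 3, 8, 4, 3, 1, 4] 45 2 false)) (.leaf [3, 0, 5, 8, 1, 8, 4] 44 6 false)) (.node (.node (.leaf [3, 8, 2, 8, 9, 5, 8] 46 0 false) (.leaf [7, 8, 4, 7, 5, 9] 28 4 false)) (.leaf [0, 6, 0, 4, 9] 41 5 false))))) (.node (.node (.node (.node (.node (.leaf [2, 3, 2, 4, 1, 3] 54 0 false) (.leaf [8, 9, 8, 3, 5, 3, 8, 3] 32 5 false)) (.node (.leaf [9, 3, 9] 26 0 false) (.leaf [8, 1, 8, 3, 1, 8, 4] 46 2 true))) (.node (.node (.leaf [2] 1 0 false) (.leaf [7] 7 0 false)) (.leaf [7, 2, 4, 3, 8, 4, 3, 1] 45 1 false))) (.node (.node (.node (.leaf [0] 0 0 false) (.leaf [0, 7, 0] 39 1 false)) (.leaf [5] 4 0 false)) (.node (.node (.leaf [0, 4, 4, 4, 1, 3, 1, 5] 55 7 true) (.leaf [9, 8, 6, 8, 6, 8, 9] 18 6 false)) (.leaf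 [1, 0, 1, 5, 3, 7, 1] 48 4 true)))) (.node (.node (.node (.node (.leaf [5, 7, 8, 4, 4, 1, 0, 8, 1] 56 9 true) (.leaf [6] 6 0 false)) (.node (.leaf [4, 7, 5, 3, 8, 7, 8] 29 0 false) (.leaf [9] 9 0 false))) (.node (.node (.leaf [3, 0, 7, 3, 1, 0] 43 2 false) (.leaf [2, 8, 9, 5, 8, 2, 3] 46 2 false)) (.leaf [8, 2, 8, 4, 0, 3, 5] 44 2 true))) (.node (.node (.node (.leaf [0, 2, 3, 7, 0, 3] 43 4 true) (.leaf [8, 4, 7, 5, 9, 8] 28 5 false)) (.leaf [6, 8, 7, 3, 4, 8, 3] 31 7 true)) (.node (.node (.leaf [1] 1 1 false) (.leaf [3, 9, 5, 5, 2, 9, 0, 1] 49 0 true)) (.leaf [4] 4 1 false))))))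
noncomputable def r1 : TC.WTr := (.node (.node (.node (.node (.node (.node (.leaf [2, 3, 0, 7, 3, 1] 43 1 false) (.leaf [4, 3, 5] 20 3 false)) (.node (.leaf [1, 8, 4, 9, 8, 1, 8] 46 6 true) (.leaf [1, 4, 4, 9, 3, 8, 2, 0] 49 2 false))) (.node (.node (.leaf [2] 1 0 false) (.leaf [4, 0, 2, 8, 0, 2, 5, 5, 8] 56 8 false)) (.leaf [4, 9, 3, 8, 2, 0, 9, 1] 49 4 false))) (.node (.node (.node (.leaf [0] 0 0 false) (.leaf [6] 6 0 false)) (.leaf [3] 3 0 false)) (.node (.node (.leaf [7, 3, 4, 2, 0, 2, 4] 48 4 false) (.leaf [5, 0, 5, 1, 3, 0, 9, 5, 5] 51 3 true)) (.leaf [9, 8, 7, 8, 4, 7] 28 2 false)))) (.node (.node (.node (.node (.leaf [6, 0, 4, 9, 5] 41 0 false) (.leaf [6] 6 0 false)) (.node (.leaf [4, 6, 5, 3, 7] 27 0 false) (.leaf [9] 9 0 false))) (.node (.node (.leaf [1] 1 1 false) (.leaf [1, 8, 4, 4, 3, 0, 5] 44 2 false)) (.leaf [5, 2, 9, 0, 1, 8, 3, 9] 49 3 true)))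 (.node (.node (.node (.leaf [6, 1, 3, 7, 5, 3, 0, 4] 50 6 true) (.leaf [9, 6] 10 1 false)) (.leaf [6, 5, 3, 7, 3] 27 1 false)) (.node (.node (.leaf [1] 1 1 false) (.leaf [3, 1, 8, 4, 9, 8, 1] 46 5 true)) (.leaf [4] 4 1 false))))) (.node (.node (.node (.node (.node (.leaf [7, 8, 7, 0, 8] 40 2 false) (.leaf [8, 6, 8, 9, 8, 9, 8] 18 1 false)) (.node (.leaf [6, 8, 9, 8, 3, 5, 3, 8] 32 4 false) (.leaf [3, 4, 1, 3, 9, 4, 1] 47 5 false))) (.node (.node (.leaf [2] 1 0 false) (.leaf [7] 7 0 false)) (.leaf [5] 4 0 false))) (.node (.node (.node (.leaf [3, 1, 0, 3, 2, 5] 54 3 true) (.leaf [3, 4, 6, 5, 3] 27 5 false)) (.leaf [9, 3, 8, 2, 0, 9, 1, 4] 49 5 false)) (.node (.node (.leaf [8, 4, 0, 3, 5, 5, 8] 44 4 true) (.leaf [4, 7, 5, 9, 8, 7] 28 6 false)) (.leaf [3, 7, 3, 4, 6] 27 3 false)))) (.node (.node (.node (.node (.leaf [1, 8, 3, 9, 5, 5, 2, 9] 49 7 true) (.leaf [6] 6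 0 false)) (.node (.leaf [1, 0, 3, 2, 5, 1] 54 4 true) (.leaf [9] 9 0 false))) (.node (.node (.leaf [5, 2, 3, 4, 9, 8, 5, 2, 5] 52 7 true) (.leaf [4, 0, 3, 5, 5, 8, 2] 44 5 true)) (.leaf [9, 5, 8, 5, 0, 1, 3, 2, 0] 53 5 false))) (.node (.node (.node (.leaf [0, 2, 3, 0, 7, 3] 43 0 false) (.leaf [0, 8, 0, 7, 8] 40 5 false)) (.leaf [8, 4, 9, 4, 0, 1, 3, 2, 0] 53 0 true)) (.node (.node (.leaf [1] 1 1 false) (.leaf [6, 7] 10 2 false)) (.leaf [6] 6 0 false))))))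
noncomputable def r2 : TC.WTr := (.node (.node (.node (.node (.node (.node (.leaf [3, 0, 3, 0, 3] 42 0 false) (.leaf [9, 7] 10 2 true)) (.node (.leaf [5, 6, 4] 20 1 false) (.leaf [7, 6] 10 0 true))) (.node (.node (.leaf [2] 1 0 false) (.leaf [3, 1, 0, 2, 3, 0] 43 5 false)) (.leaf [7, 5, 9, 8, 7, 8] 28 0 false))) (.node (.node (.node (.leaf [0] 0 0 false) (.leaf [6] 6 0 false)) (.node (.leaf [3] 3 0 false) (.leaf [9] 9 0 false))) (.node (.node (.leaf [4, 1, 3, 0, 2, 3] 54 3 false) (.leaf [7, 0, 8, 0, 7] 40 4 false)) (.leaf [7, 4, 4, 3, 5] 21 4 false)))) (.node (.node (.node (.node (.leaf [1, 4, 2, 3, 2, 5, 5, 5] 55 0 false) (.leaf [6] 6 0 false)) (.node (.leaf [1, 0, 2, 3, 0, 7] 43 6 false) (.leaf [8, 7, 8, 4, 7, 5] 28 3 false))) (.node (.node (.leaf [2] 1 0 false) (.leaf [0, 7, 8, 7, 0] 40 1 false)) (.leaf [4] 4 1 false))) (.node (.node (.node (.leaf [5, 1, 0,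 1, 5, 3, 7] 48 3 true) (.leaf [6, 9] 10 1 true)) (.leaf [4, 3, 5, 5, 7] 21 0 false)) (.node (.node (.leaf [1] 1 1 false) (.leaf [4, 4, 3, 0, 5, 8, 1] 44 4 false)) (.leaf [4] 4 1 false))))) (.node (.node (.node (.node (.node (.leaf [1, 0, 2, 3, 1, 0, 2] 34 3 false) (.leaf [2, 5, 0, 3, 4, 7, 3, 2] 50 1 false)) (.node (.leaf [2, 5, 1, 3, 1, 0] 54 0 true) (.leaf [4, 1, 9, 3, 4, 1, 3] 47 2 false))) (.node (.node (.leaf [2] 1 0 false) (.leaf [7] 7 0 false)) (.leaf [8, 9, 8, 4, 8, 9, 8] 30 0 false))) (.node (.node (.node (.leaf [2] 1 0 false) (.leaf [5, 9, 8, 7, 8, 4] 28 1 false)) (.leaf [3, 5, 6] 20 0 false)) (.node (.node (.leaf [0, 9, 1, 4, 4, 9, 3, 8] 49 0 false) (.leaf [7, 8, 3, 4, 7, 5, 3] 29 5 false)) (.leaf [6, 4, 3] 20 2 false)))) (.node (.node (.node (.node (.leaf [4, 8, 4, 4, 9, 0, 3, 2, 4] 51 4 false) (.leaf [6] 6 0 false)) (.node (.leaf [8, 3, 4, 3, 8, 9,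 8, 6] 32 4 true) (.leaf [9] 9 0 false))) (.node (.node (.leaf [4, 2, 7, 3, 4, 2, 0] 48 2 false) (.leaf [9, 8, 4, 8, 9, 8, 4] 30 1 false)) (.leaf [3, 7, 8, 6, 5, 3, 8] 31 3 false))) (.node (.node (.node (.leaf [8, 4, 4, 3, 0, 5, 8] 44 3 false) (.leaf [5, 3, 0, 4, 1, 6, 1, 3] 50 1 true)) (.leaf [0, 1, 3, 2, 0, 4, 8, 4, 9] 53 4 true)) (.node (.node (.leaf [1] 1 1 false) (.leaf [9] 9 0 false)) (.leaf [4] 4 1 false))))))
noncomputable def r3 : TC.WTr := (.node (.node (.node (.node (.node (.node (.leaf [7, 0, 7] 39 0 false) (.leaf [5, 3, 7, 3, 4] 27 2 false)) (.node (.leaf [9, 2, 5, 9, 3, 2, 5] 47 1 true) (.leaf [3, 2, 5, 3, 9, 2, 5] 47 5 true))) (.node (.node (.leaf [2] 1 0 false) (.leaf [7] 7 0 false)) (.leaf [7, 5, 8, 7, 8, 9] 28 4 true))) (.node (.node (.node (.leaf [0] 0 0 false) (.leaf [7] 7 0 false)) (.leaf [3] 3 0 false)) (.node (.node (.leaf [5, 1, 3, 1, 0,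 3] 54 1 true) (.leaf [3, 4, 3, 8, 9, 8, 6, 3] 32 5 true)) (.leaf [8, 9, 8, 5, 8, 9, 8] 30 3 true)))) (.node (.node (.node (.node (.leaf [4, 9, 5, 0, 6] 41 2 false) (.leaf [6] 6 0 false)) (.node (.leaf [0, 9, 5, 5, 8, 5, 0, 5, 1] 51 8 true) (.leaf [9] 9 0 false))) (.node (.node (.leaf [2, 2] 33 0 true) (.leaf [1, 0, 5, 7, 8, 4, 4, 1, 0] 56 7 true)) (.leaf [5, 0, 1, 4, 2, 3, 2, 5] 55 7 false))) (.node (.node (.node (.leaf [0, 5, 7, 8, 4, 4, 1, 0, 8] 56 8 true) (.leaf [5, 3, 8, 7, 8, 3, 4] 29 2 false)) (.leaf [9, 8, 1, 8, 3, 1, 8] 46 1 true)) (.node (.node (.leaf [1] 1 1 false) (.leaf [7, 8, 9, 4, 7, 5] 28 0 true)) (.leaf [4] 4 1 false))))) (.node (.node (.node (.node (.node (.leaf [8, 0, 7, 8, 7] 40 0 false) (.leaf [8, 7, 3, 4, 8, 3, 4] 31 0 true)) (.node (.leaf [2, 5, 5, 5, 0, 1, 4, 2] 55 4 false) (.leaf [4, 7, 5, 8, 7, 8] 28 3 true))) (.node (.node (.leaf [2] 1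 0 false) (.leaf [7] 7 0 false)) (.leaf [5] 4 0 false))) (.node (.node (.node (.leaf [3, 0, 2, 3, 2, 4] 54 5 false) (.leaf [4, 4, 3, 5, 5] 21 5 false)) (.leaf [3, 8, 9, 8, 6, 3, 8, 3] 32 7 true)) (.node (.node (.leaf [3, 2, 4, 1, 3, 0] 54 1 false) (.leaf [2, 8, 4, 0, 3, 5, 5] 44 3 true)) (.leaf [1, 3, 1, 0, 3, 2] 54 2 true)))) (.node (.node (.node (.node (.leaf [0] 0 0 false) (.leaf [6] 6 0 false)) (.node (.leaf [0, 7, 3, 1, 0, 2] 43 3 false) (.leaf [9] 9 0 false))) (.node (.node (.leaf [5, 0, 3, 4, 7, 3, 2, 6] 50 2 false) (.leaf [6, 8, 9, 8, 9, 8, 6] 18 2 false)) (.leaf [3, 0, 4, 1, 6, 1, 3, 7] 50 2 true))) (.node (.node (.node (.leaf [8, 3, 1, 8, 4, 9, 8] 46 4 true) (.leaf [0, 3, 1, 0, 2, 3] 43 1 true)) (.leaf [3, 1, 4, 7, 2, 4, 3, 8] 45 7 false)) (.node (.node (.leaf [3] 3 0 false) (.leaf [3, 9, 3] 26 1 false)) (.leaf [0, 4, 9, 5, 0] 41 1 false))))))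
noncomputable def tS : Tr := (.leaf (nat_lit 0xfff8720ee7fc8f99c893998887f48e384fff87596683f7ee66c9289cb0e47b77abfff0e371c4057f751b8ec9398ae8c35a0fff8b586254a62a0e298943d6dc7238a4fff5e05dc51a1875070df5e07fc7563b9fff6108318b566e5d26b28251850df5e8fff6db4c079783d7ee6d25080df1c8664fff23e45a4dd0db4387234516965454ddfff4770965204d245748748c58d5da520fff5bd3445db5a111b44a0955d6699560fff3cb4151df5e409449b3cb27d38a605fff4ba09379030c2335815a02785395ebfff8c222d8729473be5673080922fb4b3fff62b09156534c2fa43862b40d3fe6adfff90287c9004009897ee9871ab0917adfff8c37a18b783e83183934d70c791091fff0901f31741384bd27d49c74c3397fcfff17462b09017b26942d32d3d36df590fff4151e362636b36e0904153384543cbfff28c1a41e351f2e72a809062758d27efff2a208f16471b7722766c47763c42b2fff13339208e11a3a932621b4e587f2c2fff17644b11a08e2c532b3a96a22cb1e0fff1bc5421bd11449a08e4dd2bb6263ddfff61468d08d1a86d23b91a822025e113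fff6dc14968d60994508d60c40b7342e4fff6ad76a45f3b908d33387c6ec300268fff6597775445b560962a08d1192ca5dcfff2ae24119a6e14dd08c1a034d2a24bffff23112712c2312c134c08c2b16ee2b8fff1af1e116d12b2b32882755da5e508cfff66c8c05a845398841356311b08b902fff27608a16b2761e85651ee30736e1effff19422427211011608a2314543892ddfff22f16e12712708a2f922f157201379fff2b29ca25708973169b6587b7148303fff1472877f73814070894a05202fa41bfff1535215901f70891461f71e31121dafff22b6dd6586583815d208911a19750bfff2fb5941b92602e023115d37242f089fff08847b11f1201454931211441434f7fff11f1fc08816349649c3f63ab332228fff1624b51630885e22c443776a53e667fff51c25e7f211e19308822658176a2bbfff4dd23f23e14208815a38a1121a8196fff0d91ee0451183043cb1f333972715dfff11c2331180453851821a60cd16c1a0fff0d00ff17517621f0450d50d116523bfff6264fd2473cb0453460fe5a01704bdfff0c919315d15e1a10fd7230d21f7045fff0440fc0d31131971e011a47c3f651bfff3030441f32ae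38616a0c92fb0fb340fff1130fa11704449240a3850f91ab0f8fff0f72260f61740f50440f42391181a8fff1570f30c81590441dd27e16511a173fff11a10c0f20f10f033204416615f15ffff1a80cb0ef5900ee0ed0ec0cc2de044fff16a0c911016a0eb0430ea29d2160e9fff0cd15a10f1510431e40cd0e811b2b4fff10e0e71921d40e60e504325a1110ccfff2151112b20e40e30e20e10ca0430e0fff0df1540de0dd0dc0db0ca04310d1d2fff118110098097096095116086000094fff09309211309109008f08e0000c908dfff0c708508508508c08b08a089088000fff000000000000000000000045044043))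
noncomputable def tJ : Tr := (.leaf (nat_lit 0x4015a5a00d6b10610134029700706248350309ef2800e280e52977112048201932107f8808a080a6781c0807e5100126816e7fc02300873eda17140b4015a0214d6b1401810d72586d9d2128065102c0120484015f5a14c1b9001001168160678624001c0214b031000800001c0a0078500000000000341c48350308090000038020d0125580032000f0111a0280c1800d600e8d00e14015b58007180c638020c8cc5580a03000b3e40102c0b2000a010190280038029b0c055000320080010164800a2816f002c4000081800050000b2400200c02041a480291804819800d1c0100021084a03801a08000000000076040019480803b007200002107900000280604172012008300803dc0600000200000101702000280e0002e0000401812030003b9c000000001060300774830c308062800038020c000040c833000e060002850020000010581000028000003020186038027b8c00008a3300003dc0001400200c0000172100028000002e00000d000a00000000cb74830030821000004001800000180003008006000580002000600018028052800028300004001800400000c00040000300800008182002220016004202806510ac0100061804018800b00010810000000006c010000000000d8020800000000006c0100000000005800000210840000016002b5ad6b5a8000))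
noncomputable def tQ : Tr := (.leaf (nat_lit 0x0))
noncomputable def tR : TC.WTr := (.node (.node r0 r1) (.node r2 r3))
def hl : List ℕ := [3, 4, 5, 5, 4, 6, 7, 8, 9]
def B : List (List ℕ) := [[0, 0], [1, 2], [2, 1], [3, 3], [4, 5], [5, 4], [6, 6], [7, 7], [8, 8], [9, 9], [6, 7, 9], [6, 7, 6, 7], [6, 7, 6, 7], [6, 8, 6, 8, 6, 8, 6, 8, 6, 8, 6, 8, 6, 8, 6, 8], [6, 8, 6, 8, 6, 8, 6, 8, 6, 8, 6, 8, 6, 8, 6, 8], [7, 8, 7, 8, 7, 8, 7, 8], [7, 8, 7, 8, 7, 8, 7, 8], [8, 7, 8, 9, 8, 7, 8, 9], [8, 6, 8, 6, 8, 9, 8, 9], [4, 4, 4, 4, 4, 4, 4, 4, 4, 4], [4, 3, 5, 6], [4, 4, 3, 5, 5, 7], [5, 3, 4, 4, 4, 4, 4, 3, 4, 8], [3, 4, 3, 4, 3, 4, 3, 4, 3, 4, 3, 4, 3, 4, 3, 4], [3, 4, 3, 5, 3, 4, 3, 5], [3, 5, 3, 5, 3, 5, 3, 5, 3, 5, 3, 5, 3, 5, 3, 5], [3, 9, 3, 9], [3, 4, 6, 5, 3, 7], [4, 7, 5, 9, 8, 7, 8], [3, 4, 7, 5, 3, 8, 7, 8], [4, 8, 9, 8, 4, 8, 9, 8], [5, 3, 8, 5, 3, 7, 8, 6],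 [3, 5, 3, 8, 3, 6, 8, 9, 8], [1, 1, 1], [1, 0, 2, 0, 1, 0, 2, 3], [2, 0, 2, 0, 2, 0, 2, 0, 1, 0, 1, 5], [0, 1, 0, 1, 0, 1, 0, 1, 0, 1, 0, 1, 0, 1, 0, 1, 0, 1, 0, 1], [0, 1, 0, 2, 0, 1, 0, 2, 0, 1, 0, 2, 0, 1, 0, 2, 0, 1, 0, 2, 0, 1, 0, 2], [0, 2, 0, 2, 0, 2, 0, 2, 0, 2, 0, 2, 0, 2, 0, 2, 0, 2, 0, 2], [0, 7, 0, 7], [0, 8, 0, 7, 8, 7], [0, 6, 0, 4, 9, 5], [0, 3, 0, 3, 0, 3], [1, 0, 2, 3, 0, 7, 3], [0, 5, 8, 1, 8, 4, 4, 3], [1, 4, 7, 2, 4, 3, 8, 4, 3], [2, 3, 8, 2, 8, 9, 5, 8], [1, 3, 9, 4, 1, 9, 3, 4], [2, 0, 2, 4, 2, 7, 3, 4], [2, 0, 9, 1, 4, 4, 9, 3, 8], [2, 6, 2, 5, 0, 3, 4, 7, 3], [0, 3, 2, 4, 0, 4, 8, 4, 4, 9], [1, 4, 1, 4, 1, 4, 8, 9, 5, 3], [0, 1, 3, 2, 0, 5, 9, 5, 8, 5], [0, 2, 3, 2, 4, 1, 3], [0, 1, 4, 2, 3, 2, 5, 5, 5], [0, 2, 8, 0, 2, 5, 5, 8, 7, 4]]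
def subs : List (List ℕ) := [[3], [4], [5], [6], [7], [8], [9]]
def ex : List (List ℕ) := []
def inv (x : ℕ) : ℕ := [0, 2, 1, 3, 5, 4, 6, 7, 8, 9].getD x 0
noncomputable def rS : ℕ → ℕ := rowOf tS (nat_lit 7) (nat_lit 127) (nat_lit 132) (nat_lit 5444517870735015415413993718908291383295)
noncomputable def rJ : ℕ → ℕ := rowOf tJ (nat_lit 7) (nat_lit 127) (nat_lit 60) (nat_lit 1152921504606846975)
noncomputable def C : TC.Cfg where
  S := look rS (nat_lit 12) (nat_lit 4095)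
  J := look rJ (nat_lit 5) (nat_lit 31)
  Q := lookQ tQ (nat_lit 7) (nat_lit 1) (nat_lit 1)
  R := tR.get
  hl := fun x => hl.contains x
  n := (nat_lit 66)
  M := (nat_lit 66)
  top := (nat_lit 2508)
  nl := (nat_lit 10)
  need := (nat_lit 10)
  nr := (nat_lit 21)
theorem k0 : TC.chkRange C 0 2 = true := by decide +kernel
theorem rows0 : ∀ c < (0 + 2) * 64, c < C.M → TC.chkRow C c = true :=
  TC.rows_step (TC.rows_zero C) k0
theorem main {G : Type*} [Group G] (g : ℕ → G) (hB : ∀ r ∈ B, ev g r = 1) (H : Subgroup G)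
    (hH : ∀ w ∈ subs, ev g w ∈ H) :
    H.relIndex (Subgroup.closure (g '' {x | x < 10})) ≠ 0 ∧
      H.relIndex (Subgroup.closure (g '' {x | x < 10})) ≤ 66 :=
  TC.index_le C B subs ex inv hl tR.hint rfl (by decide +kernel) (by decide +kernel)
    (TC.rows_done rows0 (by decide +kernel)) g hB H hH
end H0.TCM120
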